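import Groth.Prelude.Def_FEt
import Mathlib

/-! # Faithfulness of restriction to a hypersurface of the punctured spectrum -/

set_option autoImplicit false
set_option linter.style.haveILetI false
set_option backward.isDefEq.respectTransparency false
set_option backward.isDefEq.respectTransparency.types false
set_option maxHeartbeats 1000000

universe u

open CategoryTheory CategoryTheory.Limits AlgebraicGeometry

noncomputable section

namespace PuncFaith

/-- A component of dimension at least two meets the hypersurface off the closed point. -/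
theorem exists_prime_over {A : Type u} [CommRing A] [IsNoetherianRing A] [IsLocalRing A] (p : Ideal A) [p.IsPrime]
    {f : A} (hf : f ∈ IsLocalRing.maximalIdeal A) (hdim : (2 : WithBot ℕ∞) ≤ ringKrullDim (A ⧸ p)) :
    ∃ q : Ideal A, q.IsPrime ∧ p ≤ q ∧ f ∈ q ∧ q ≠ IsLocalRing.maximalIdeal A := by
  haveI : IsLocalRing (A ⧸ p) := IsLocalRing.of_surjective' _ Ideal.Quotient.mk_surjective
  have hm : (IsLocalRing.maximalIdeal (A ⧸ p)).comap (Ideal.Quotient.mk p) = IsLocalRing.maximalIdeal A :=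
    IsLocalRing.eq_maximalIdeal (Ideal.comap_isMaximal_of_surjective _ Ideal.Quotient.mk_surjective)
  have hx : ¬ IsUnit (Ideal.Quotient.mk p f) := fun h => by
    have : Ideal.Quotient.mk p f ∈ IsLocalRing.maximalIdeal (A ⧸ p) := by
      rw [← Ideal.mem_comap, hm]; exact hf
    exact this h
  obtain ⟨Q, hQ⟩ := Ideal.nonempty_minimalPrimes (I := Ideal.span {Ideal.Quotient.mk p f})
    (fun h => hx (Ideal.span_singleton_eq_top.1 h))
  haveI := hQ.1.1
  refine ⟨Q.comap (Ideal.Quotient.mk p), inferInstance, ?_, hQ.1.2 (Ideal.mem_span_singleton_self _), fun h => ?_⟩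
  · intro a ha
    show Ideal.Quotient.mk p a ∈ Q
    rw [Ideal.Quotient.eq_zero_iff_mem.2 ha]
    exact Q.zero_mem
  · rw [← hm] at h
    have hQm : Q = IsLocalRing.maximalIdeal (A ⧸ p) :=
      Ideal.comap_injective_of_surjective _ Ideal.Quotient.mk_surjective h
    have h1 : Q.height ≤ 1 := by
      refine (Ideal.height_le_spanRank_toENat_of_mem_minimalPrimes _ _ hQ).trans ?_
      have : (Ideal.span {Ideal.Quotient.mk p f}).spanRank ≤ 1 :=
        (Submodule.spanRank_span_le_card _).trans (by simp)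
      simpa using OrderHomClass.mono Cardinal.toENat this
    rw [hQm] at h1
    rw [← IsLocalRing.maximalIdeal_height_eq_ringKrullDim] at hdim
    have : (2 : ℕ∞) ≤ 1 := (WithBot.coe_le_coe.1 hdim).trans h1
    exact absurd this (by decide)

theorem faithful {X X₀ : Scheme.{u}} (u : X₀ ⟶ X) (hu : ∀ T : Set X, IsClopen T → T.Nonempty → ∃ x₀, u x₀ ∈ T) :
    (FEt.restrict u).Faithful := ⟨fun {Y₁ Y₂} a b h => by
  let y₁ : Y₁.left ⟶ X := Y₁.hom
  let y₂ : Y₂.left ⟶ X := Y₂.hom
  haveI : IsFinite y₁ := Y₁.prop.1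
  haveI : Etale y₁ := Y₁.prop.2
  haveI : IsFinite y₂ := Y₂.prop.1
  haveI : Etale y₂ := Y₂.prop.2
  apply MorphismProperty.Over.Hom.ext
  have ha : a.left ≫ y₂ = y₁ := MorphismProperty.Over.w a
  have hb : b.left ≫ y₂ = y₁ := MorphismProperty.Over.w b
  let l : Y₁.left ⟶ pullback y₂ y₂ := pullback.lift a.left b.left (ha.trans hb.symm)
  have h1 := congrArg (fun k => k.left ≫ pullback.fst y₂ u) h
  have hfa : ((FEt.restrict u).map a).left ≫ pullback.fst y₂ u = pullback.fst y₁ u ≫ a.left :=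
    pullback.lift_fst _ _ _
  have hfb : ((FEt.restrict u).map b).left ≫ pullback.fst y₂ u = pullback.fst y₁ u ≫ b.left :=
    pullback.lift_fst _ _ _
  rw [hfa, hfb] at h1
  have hpre : ∀ (x₀ : X₀) (t : Y₁.left), y₁ t = u x₀ → l t ∈ Set.range (pullback.diagonal y₂) := fun x₀ t ht => by
    obtain ⟨s, hs, -⟩ := Scheme.Pullback.exists_preimage_pullback (f := y₁) (g := u) t x₀ ht
    have : pullback.fst y₁ u ≫ a.left ≫ pullback.diagonal y₂ = pullback.fst y₁ u ≫ l := by
      apply pullback.hom_ext <;> simp [l, h1]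
    refine ⟨(pullback.fst y₁ u ≫ a.left) s, ?_⟩
    rw [← hs]
    exact congrArg (fun k => k s) this
  let E : Set Y₁.left := l ⁻¹' Set.range (pullback.diagonal y₂)
  have hE : IsClopen E := ⟨(pullback.diagonal y₂).isClosedEmbedding.isClosed_range.preimage l.continuous,
    (pullback.diagonal y₂).isOpenEmbedding.isOpen_range.preimage l.continuous⟩
  have hl : Set.range l ⊆ Set.range (pullback.diagonal y₂) := by
    rintro _ ⟨t, rfl⟩
    by_contra ht
    obtain ⟨x₀, t', ht', htu⟩ := hu (y₁ '' Eᶜ)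
      ⟨y₁.isClosedMap _ hE.compl.1, y₁.isOpenMap _ hE.compl.2⟩ ⟨y₁ t, t, ht, rfl⟩
    exact ht' (hpre x₀ t' htu)
  let k := IsOpenImmersion.lift (pullback.diagonal y₂) l hl
  have hk : k ≫ pullback.diagonal y₂ = l := IsOpenImmersion.lift_fac _ _ _
  have h2 := congrArg (· ≫ pullback.fst y₂ y₂) hk
  have h3 := congrArg (· ≫ pullback.snd y₂ y₂) hk
  simp only [l, Category.assoc, pullback.diagonal_fst, pullback.diagonal_snd, Category.comp_id,
    pullback.lift_fst, pullback.lift_snd] at h2 h3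
  exact h2.symm.trans h3⟩

theorem result (A : Type u) [CommRing A] [IsNoetherianRing A] [IsLocalRing A] (f : A) (hf : f ∈ IsLocalRing.maximalIdeal A)
    (U' : (Spec (CommRingCat.of A)).Opens) (hU' : U' ≤ FEt.puncturedSpec A)
    (u' : pullback (FEt.puncturedSpec A).ι (Spec.map (CommRingCat.ofHom (Ideal.Quotient.mk (Ideal.span {f})))) ⟶ (U' : Scheme.{u}))
    (hu' : u' ≫ U'.ι = (pullback.fst (FEt.puncturedSpec A).ι (Spec.map (CommRingCat.ofHom (Ideal.Quotient.mk (Ideal.span {f})))) ≫ (FEt.puncturedSpec A).ι))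
    (hdim : ∀ p : PrimeSpectrum A, p.asIdeal ∈ minimalPrimes A → p ∈ U' → f ∉ p.asIdeal →
      (2 : WithBot ℕ∞) ≤ ringKrullDim (A ⧸ p.asIdeal)) :
    (FEt.restrict u').Faithful := by
  refine faithful u' fun T hT ⟨y, hy⟩ => ?_
  let φ := Spec.map (CommRingCat.ofHom (Ideal.Quotient.mk (Ideal.span {f})))
  -- points of the punctured hypersurface are hit
  have hit : ∀ q : PrimeSpectrum A, f ∈ q.asIdeal → q.asIdeal ≠ IsLocalRing.maximalIdeal A →
      ∃ x₀, U'.ι (u' x₀) = q := fun q hfq hqm => by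
    have hqU : q ∈ FEt.puncturedSpec A := fun h => hqm (congrArg PrimeSpectrum.asIdeal h)
    have hq : q ∈ Set.range φ := by
      rw [show Set.range φ = _ from range_comap_of_surjective _ _ Ideal.Quotient.mk_surjective,
        PrimeSpectrum.mem_zeroLocus, CommRingCat.hom_ofHom, Ideal.mk_ker]
      exact Ideal.span_le.2 (Set.singleton_subset_iff.2 hfq)
    obtain ⟨q', hq'⟩ := hq
    obtain ⟨x₀, hx₀, -⟩ := Scheme.Pullback.exists_preimage_pullback (f := (FEt.puncturedSpec A).ι) (g := φ)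
      ⟨q, hqU⟩ q' hq'.symm
    refine ⟨x₀, ?_⟩
    rw [← Scheme.Hom.comp_apply, hu', Scheme.Hom.comp_apply, hx₀]
    rfl
  let P : PrimeSpectrum A := U'.ι y
  obtain ⟨p, hp, hpy⟩ := Ideal.exists_minimalPrimes_le (I := (⊥ : Ideal A)) (J := P.asIdeal) bot_le
  let p' : PrimeSpectrum A := ⟨p, hp.1.1⟩
  have hspec : p' ⤳ P := (PrimeSpectrum.le_iff_specializes _ _).1 hpy
  have hpU : p' ∈ U' := hspec.mem_open U'.2 y.2
  have hpT : (⟨p', hpU⟩ : (U' : Scheme.{u})) ∈ T :=
    ((subtype_specializes_iff (p := fun q : PrimeSpectrum A => q ∈ U') ⟨p', hpU⟩ y).2 hspec).mem_open hT.2 hy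
  by_cases hfp : f ∈ p
  · obtain ⟨x₀, hx₀⟩ := hit p' hfp (fun h => hU' hpU (PrimeSpectrum.ext h))
    refine ⟨x₀, ?_⟩
    rw [show u' x₀ = ⟨p', hpU⟩ from U'.ι.isOpenEmbedding.injective hx₀]
    exact hpT
  · haveI := hp.1.1
    obtain ⟨q, hq, hpq, hfq, hqm⟩ := exists_prime_over p hf (hdim p' hp hpU hfp)
    obtain ⟨x₀, hx₀⟩ := hit ⟨q, hq⟩ hfq hqm
    refine ⟨x₀, Specializes.mem_closed ((subtype_specializes_iff (p := fun q : PrimeSpectrum A => q ∈ U') ⟨p', hpU⟩ (u' x₀)).2 ?_) hT.1 hpT⟩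
    first
    | exact ((PrimeSpectrum.le_iff_specializes p' ⟨q, hq⟩).1 hpq).trans (specializes_of_eq hx₀.symm)
    | (show p' ⤳ U'.ι (u' x₀); rw [hx₀]; exact (PrimeSpectrum.le_iff_specializes p' ⟨q, hq⟩).1 hpq)

end PuncFaith

end
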